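import Cfsg.Agent.H957.TL.Span

/-!
# Theorem L: matrices with prescribed "antidiagonal sums" and a rank condition (helper171)

* `exists_seq` : `q_0, ..., q_(s-1)` of degree `< r` with `∑ X ^ l * q_l = G` and `η (q_l)` spanning `W`, for `r, s ≥ 2`,
  `dim W ≤ s`, `η` from the polynomials of degree `< r` onto `W`; the field has more than two elements;
* `exists_Q` : `Q` with `∑ Q i j • (m i * n j) = G` and `y ᵥ* Q ≠ 0` for all nonzero `y` of a subspace of dimension `≤ s`.
-/

set_option autoImplicit false

namespace Cfsg.Agent.H171.TL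

open Polynomial Module

universe u v

variable {F : Type u} [Field F]

theorem divX_mem {r : ℕ} {p : F[X]} (hp : p ∈ degreeLT F (r + 1)) : p.divX ∈ degreeLT F r := by
  rw [mem_degreeLT, degree_lt_iff_coeff_zero] at hp ⊢
  intro m hm
  rw [coeff_divX]
  exact hp _ (by omega)

theorem cons_mem {r : ℕ} {h : F[X]} (hh : h ∈ degreeLT F r) (c : F) : C c + X * h ∈ degreeLT F (r + 1) := by
  rw [mem_degreeLT, degree_lt_iff_coeff_zero] at hh ⊢
  intro m hm
  obtain ⟨m, rfl⟩ : ∃ k, m = k + 1 := ⟨m - 1, by omega⟩
  rw [coeff_add, coeff_C_succ, coeff_X_mul, zero_add]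
  exact hh _ (by omega)

theorem mono_mem {r t : ℕ} (h : r ≤ t) {p : F[X]} (hp : p ∈ degreeLT F r) : p ∈ degreeLT F t :=
  degreeLT_mono h hp

theorem eq_cons (p : F[X]) : p = C (p.coeff 0) + X * p.divX := by
  conv_lhs => rw [← divX_mul_X_add p]
  ring

section two

variable {W : Type v} [AddCommGroup W] [Module F W]

/-- the alternating form -/
def om (e : W ≃ₗ[F] (Fin 2 → F)) (x y : W) : F := e x 0 * e y 1 - e x 1 * e y 0

theorem om_add (e : W ≃ₗ[F] (Fin 2 → F)) (x y z : W) : om e (x + y) z = om e x z + om e y z := by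
  simp only [om, map_add, Pi.add_apply]; ring

theorem om_add' (e : W ≃ₗ[F] (Fin 2 → F)) (x y z : W) : om e x (y + z) = om e x y + om e x z := by
  simp only [om, map_add, Pi.add_apply]; ring

theorem om_smul (e : W ≃ₗ[F] (Fin 2 → F)) (c : F) (x y : W) : om e (c • x) y = c * om e x y := by
  simp only [om, map_smul, Pi.smul_apply, smul_eq_mul]; ring

theorem om_smul' (e : W ≃ₗ[F] (Fin 2 → F)) (c : F) (x y : W) : om e x (c • y) = c * om e x y := by
  simp only [om, map_smul, Pi.smul_apply, smul_eq_mul]; ring

theorem om_swap (e : W ≃ₗ[F] (Fin 2 → F)) (x y : W) : om e x y = -om e y x := by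
  simp only [om]; ring

theorem om_self (e : W ≃ₗ[F] (Fin 2 → F)) (x : W) : om e x x = 0 := by
  simp only [om]; ring

theorem span_of_om (e : W ≃ₗ[F] (Fin 2 → F)) {x y : W} (h : om e x y ≠ 0) : Submodule.span F {x, y} = ⊤ := by
  rw [eq_top_iff]
  intro w _
  rw [Submodule.mem_span_pair]
  refine ⟨om e w y / om e x y, om e x w / om e x y, ?_⟩
  apply e.injective
  rw [map_add, map_smul, map_smul]
  funext i
  simp only [Pi.add_apply, Pi.smul_apply, smul_eq_mul]
  field_simp
  fin_cases i
  · simp only [om, Fin.zero_eta]; ring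
  · simp only [om, Fin.mk_one]; ring

end two

/-- the base case -/
theorem exists_two {ρ : ℕ} {μ : F} (hμ0 : μ ≠ 0) (hμ1 : μ ≠ 1) {W : Type v} [AddCommGroup W] [Module F W]
    [FiniteDimensional F W] (η : F[X] →ₗ[F] W) (hη : (degreeLT F (ρ + 2)).map η = ⊤) (hW : finrank F W ≤ 2)
    (c : F) (g : F[X]) :
    ∃ h ∈ degreeLT F (ρ + 1), Submodule.span F {η (C c + X * h), η (g - h)} = ⊤ := by
  by_contra hcon
  push Not at hcon
  -- the image of `η`
  have hker : (∀ h ∈ degreeLT F (ρ + 1), η h = 0) → (∀ h ∈ degreeLT F (ρ + 1), η (X * h) = 0) → False := by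
    intro h1 h2
    apply hcon 0 (Submodule.zero_mem _)
    have h3 : (⊤ : Submodule F W) = ⊥ := by
      rw [← hη, eq_bot_iff, Submodule.map_le_iff_le_comap]
      intro p hp
      rw [Submodule.mem_comap, Submodule.mem_bot, eq_cons p, map_add, h2 _ (divX_mem hp), add_zero]
      apply h1
      rw [mem_degreeLT]
      exact lt_of_le_of_lt degree_C_le (by exact_mod_cast Nat.succ_pos ρ)
    rw [h3, eq_bot_iff, ← h3]
    exact le_top
  rcases Nat.lt_or_ge (finrank F W) 2 with hlt | hge
  · -- dimension `≤ 1`
    have hz : ∀ x : W, x ≠ 0 → Submodule.span F {x} = ⊤ := by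
      intro x hx
      apply Submodule.eq_top_of_finrank_eq
      rw [finrank_span_singleton hx]
      have : 0 < finrank F W := by
        have : Nontrivial W := ⟨x, 0, hx⟩
        exact finrank_pos
      omega
    have h1 : ∀ h ∈ degreeLT F (ρ + 1), η (C c + X * h) = 0 := by
      intro h hh
      by_contra hne
      apply hcon h hh
      rw [eq_top_iff, ← hz _ hne]
      exact Submodule.span_mono (by simp)
    have h2 : ∀ h ∈ degreeLT F (ρ + 1), η (g - h) = 0 := by
      intro h hh
      by_contra hne
      apply hcon h hh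
      rw [eq_top_iff, ← hz _ hne]
      exact Submodule.span_mono (by simp)
    have h3 := h1 0 (Submodule.zero_mem _)
    have h4 := h2 0 (Submodule.zero_mem _)
    rw [mul_zero, add_zero] at h3
    rw [sub_zero] at h4
    refine hker (fun h hh => ?_) fun h hh => ?_
    · have h5 := h2 h hh
      rw [map_sub, h4, zero_sub, neg_eq_zero] at h5
      exact h5
    · have h5 := h1 h hh
      rw [map_add, h3, zero_add] at h5
      exact h5
  · -- dimension `2`
    have hW2 : finrank F W = 2 := le_antisymm hW hge
    let e : W ≃ₗ[F] (Fin 2 → F) := LinearEquiv.ofFinrankEq W (Fin 2 → F) (by rw [hW2, finrank_fin_fun])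
    have hD : ∀ h ∈ degreeLT F (ρ + 1), om e (η (C c + X * h)) (η (g - h)) = 0 := by
      intro h hh
      by_contra hne
      exact hcon h hh (span_of_om e hne)
    -- the quadratic form
    have hB : ∀ h ∈ degreeLT F (ρ + 1), om e (η (X * h)) (η h) = 0 := by
      intro h hh
      have key : ∀ t : F, om e (η (C c)) (η g) + t * (om e (η (X * h)) (η g) - om e (η (C c)) (η h)) -
          t ^ 2 * om e (η (X * h)) (η h) = 0 := by
        intro t
        have h1 := hD (t • h) (Submodule.smul_mem _ _ hh)
        have e1 : η (C c + X * (t • h)) = η (C c) + t • η (X * h) := by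
          rw [map_add, mul_smul_comm, map_smul]
        have e2 : η (g - t • h) = η g + (-t) • η h := by
          rw [map_sub, map_smul, neg_smul, sub_eq_add_neg]
        rw [e1, e2, om_add, om_add', om_add', om_smul, om_smul', om_smul, om_smul'] at h1
        linear_combination h1
      have k0 := key 0
      have k1 := key 1
      have kμ := key μ
      have h2 : om e (η (C c)) (η g) = 0 := by linear_combination k0
      rw [h2] at k1 kμ
      have h3 : (μ * (1 - μ)) * om e (η (X * h)) (η h) = 0 := by
        linear_combination kμ - μ * k1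
      rcases mul_eq_zero.1 h3 with h4 | h4
      · rcases mul_eq_zero.1 h4 with h5 | h5
        · exact absurd h5 hμ0
        · exact absurd (sub_eq_zero.1 h5).symm hμ1
      · exact h4
    have hpol : ∀ h ∈ degreeLT F (ρ + 1), ∀ h' ∈ degreeLT F (ρ + 1),
        om e (η (X * h)) (η h') = om e (η h) (η (X * h')) := by
      intro h hh h' hh'
      have h1 := hB (h + h') (Submodule.add_mem _ hh hh')
      rw [mul_add, map_add, map_add, om_add, om_add', om_add', hB h hh, hB h' hh', om_swap e (η (X * h'))] at h1
      linear_combination h1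
    have hX : ∀ i, i < ρ + 1 → (X : F[X]) ^ i ∈ degreeLT F (ρ + 1) := by
      intro i hi
      rw [mem_degreeLT, degree_X_pow]
      exact_mod_cast hi
    have hS : ∀ d i j : ℕ, i = j + d → i < ρ + 2 → om e (η (X ^ i)) (η (X ^ j)) = 0 := by
      intro d
      induction d using Nat.strong_induction_on with
      | _ d ih =>
        intro i j hij hi
        rcases Nat.eq_zero_or_pos d with rfl | hd
        · rw [add_zero] at hij
          rw [hij, om_self]
        · rcases Nat.eq_or_lt_of_le (Nat.succ_le_of_lt hd) with h1 | h1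
          · have h2 : i = j + 1 := by omega
            rw [h2, pow_succ']
            exact hB _ (hX j (by omega))
          · obtain ⟨i, rfl⟩ : ∃ k, i = k + 1 := ⟨i - 1, by omega⟩
            have h2 := hpol _ (hX i (by omega)) _ (hX j (by omega))
            rw [← pow_succ', ← pow_succ'] at h2
            rw [h2]
            exact ih (d - 2) (by omega) i (j + 1) (by omega) (by omega)
    have hS' : ∀ i j : ℕ, i < ρ + 2 → j < ρ + 2 → om e (η (X ^ i)) (η (X ^ j)) = 0 := by
      intro i j hi hj
      rcases le_total j i with h | h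
      · exact hS (i - j) i j (by omega) hi
      · rw [om_swap, hS (j - i) j i (by omega) hj, neg_zero]
    -- `om` vanishes
    have hsp : ∀ x : W, x ∈ Submodule.span F (Set.range fun i : Fin (ρ + 2) => η (X ^ (i : ℕ))) := by
      classical
      intro x
      have hx : x ∈ (degreeLT F (ρ + 2)).map η := by rw [hη]; trivial
      rw [degreeLT_eq_span_X_pow, Submodule.map_span] at hx
      refine Submodule.span_mono ?_ hx
      rintro _ ⟨p, hp, rfl⟩
      simp only [Finset.coe_image, Finset.coe_range, Set.mem_image, Set.mem_Iio] at hp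
      obtain ⟨d, hd, rfl⟩ := hp
      exact ⟨⟨d, hd⟩, rfl⟩
    have hz1 : ∀ x : W, ∀ j : ℕ, j < ρ + 2 → om e x (η (X ^ j)) = 0 := by
      intro x j hj
      induction hsp x using Submodule.span_induction with
      | mem y hy =>
        obtain ⟨i, rfl⟩ := hy
        exact hS' i j i.2 hj
      | zero => simp [om]
      | add y z _ _ hy hz => rw [om_add, hy, hz, add_zero]
      | smul a y _ hy => rw [om_smul, hy, mul_zero]
    have hz2 : ∀ x y : W, om e x y = 0 := by
      intro x y
      induction hsp y using Submodule.span_induction with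
      | mem y hy =>
        obtain ⟨i, rfl⟩ := hy
        exact hz1 x i i.2
      | zero => simp [om]
      | add y z _ _ hy hz => rw [om_add', hy, hz, add_zero]
      | smul a y _ hy => rw [om_smul', hy, mul_zero]
    have h1 := hz2 (e.symm ![1, 0]) (e.symm ![0, 1])
    simp [om] at h1

/-- **the polynomials `q_l`** -/
theorem exists_seq {ρ : ℕ} {μ : F} (hμ0 : μ ≠ 0) (hμ1 : μ ≠ 1) (s : ℕ) :
    ∀ (W : Type v) [AddCommGroup W] [Module F W] [FiniteDimensional F W] (η : F[X] →ₗ[F] W),
      (degreeLT F (ρ + 2)).map η = ⊤ → finrank F W ≤ s + 2 → ∀ G ∈ degreeLT F (ρ + 1 + (s + 2)),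
      ∃ q : Fin (s + 2) → F[X], (∀ l, q l ∈ degreeLT F (ρ + 2)) ∧ ∑ l : Fin (s + 2), X ^ (l : ℕ) * q l = G ∧
        Submodule.span F (Set.range fun l => η (q l)) = ⊤ := by
  induction s with
  | zero =>
    intro W _ _ _ η hη hW G hG
    obtain ⟨h, hh, hsp⟩ := exists_two hμ0 hμ1 η hη hW (G.coeff 0) G.divX
    refine ⟨![C (G.coeff 0) + X * h, G.divX - h], ?_, ?_, ?_⟩
    · intro l
      fin_cases l
      · exact cons_mem hh _
      · exact Submodule.sub_mem _ (divX_mem (by simpa using hG)) (mono_mem (by omega) hh)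
    · rw [Fin.sum_univ_two]
      simp only [Fin.val_zero, Fin.val_one, pow_zero, pow_one, Matrix.cons_val_zero, Matrix.cons_val_one]
      conv_rhs => rw [eq_cons G]
      ring
    · rw [eq_top_iff, ← hsp]
      refine Submodule.span_mono ?_
      rintro x (h1 | h1)
      · exact ⟨(0 : Fin 2), h1.symm⟩
      · exact ⟨(1 : Fin 2), h1.symm⟩
  | succ s ih =>
    intro W _ _ _ η hη hW G hG
    -- the choice of `h`
    obtain ⟨h, hh, hq⟩ : ∃ h ∈ degreeLT F (ρ + 1),
        finrank F (W ⧸ Submodule.span F {η (C (G.coeff 0) + X * h)}) ≤ s + 2 := by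
      rcases Nat.lt_or_ge (finrank F W) (s + 1 + 2) with hlt | hge
      · refine ⟨0, Submodule.zero_mem _, ?_⟩
        exact le_trans (Submodule.finrank_quotient_le _) (by omega)
      · by_contra hcon
        push Not at hcon
        have hz : ∀ h ∈ degreeLT F (ρ + 1), η (C (G.coeff 0) + X * h) = 0 := by
          intro h hh
          by_contra hne
          have h1 := hcon h hh
          have h2 := Submodule.finrank_quotient_add_finrank (Submodule.span F {η (C (G.coeff 0) + X * h)})
          rw [finrank_span_singleton hne] at h2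
          omega
        have h0 := hz 0 (Submodule.zero_mem _)
        rw [mul_zero, add_zero] at h0
        have h1 : ∀ h ∈ degreeLT F (ρ + 1), η (X * h) = 0 := by
          intro h hh
          have h2 := hz h hh
          rw [map_add, h0, zero_add] at h2
          exact h2
        have h2 : (⊤ : Submodule F W) ≤ Submodule.span F {η 1} := by
          rw [← hη, Submodule.map_le_iff_le_comap]
          intro p hp
          rw [Submodule.mem_comap, eq_cons p, map_add, h1 _ (divX_mem hp), add_zero]
          have h3 : C (p.coeff 0) = (p.coeff 0) • (1 : F[X]) := by rw [smul_eq_C_mul, mul_one]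
          rw [h3, map_smul]
          exact Submodule.smul_mem _ _ (Submodule.mem_span_singleton_self _)
        have h3 := Submodule.finrank_mono h2
        rw [finrank_top] at h3
        have h4 := finrank_span_le_card (R := F) ({η 1} : Set W)
        simp at h4
        omega
    set q₀ := C (G.coeff 0) + X * h with hq₀
    set N := Submodule.span F {η q₀} with hN
    have hη' : (degreeLT F (ρ + 2)).map (N.mkQ.comp η) = ⊤ := by
      rw [Submodule.map_comp, hη, Submodule.map_top, Submodule.range_mkQ]
    have hG' : G.divX - h ∈ degreeLT F (ρ + 1 + (s + 2)) :=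
      Submodule.sub_mem _ (divX_mem (by simpa [add_assoc] using hG)) (mono_mem (by omega) hh)
    obtain ⟨q, hq1, hq2, hq3⟩ := ih (W ⧸ N) (N.mkQ.comp η) hη' hq (G.divX - h) hG'
    refine ⟨Fin.cons q₀ q, ?_, ?_, ?_⟩
    · intro l
      refine Fin.cases ?_ (fun l => ?_) l
      · exact cons_mem hh _
      · exact hq1 l
    · rw [Fin.sum_univ_succ]
      simp only [Fin.val_zero, pow_zero, one_mul, Fin.cons_zero, Fin.cons_succ, Fin.val_succ]
      have h1 : ∑ l : Fin (s + 2), (X : F[X]) ^ ((l : ℕ) + 1) * q l = X * (G.divX - h) := by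
        rw [← hq2, Finset.mul_sum]
        refine Finset.sum_congr rfl fun l _ => ?_
        ring
      rw [h1]
      conv_rhs => rw [eq_cons G]
      rw [hq₀]
      ring
    · rw [eq_top_iff]
      intro x _
      have h1 : N.mkQ x ∈ Submodule.span F (Set.range fun l => (N.mkQ.comp η) (q l)) := by rw [hq3]; trivial
      have h2 : (Set.range fun l => (N.mkQ.comp η) (q l)) = N.mkQ '' (Set.range fun l => η (q l)) := by
        rw [← Set.range_comp]
        rfl
      rw [h2, ← Submodule.map_span] at h1
      obtain ⟨y, hy, hxy⟩ := h1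
      have h3 : x - y ∈ N := by
        rw [← Submodule.ker_mkQ N, LinearMap.mem_ker, map_sub, hxy, sub_self]
      have h4 : x = (x - y) + y := by abel
      rw [h4]
      refine Submodule.add_mem _ ?_ ?_
      · refine Submodule.span_mono ?_ h3
        rintro _ rfl
        exact ⟨0, by simp⟩
      · refine Submodule.span_mono ?_ hy
        rintro _ ⟨l, rfl⟩
        exact ⟨l.succ, by simp⟩

/-- **`Q` in the affine space, injective on `Y`** -/
theorem exists_Q {ρ σ : ℕ} {μ : F} (hμ0 : μ ≠ 0) (hμ1 : μ ≠ 1) (m : Fin (ρ + 2) → F[X]) (n : Fin (σ + 2) → F[X])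
    (hm : LinearIndependent F m) (hm' : ∀ i, m i ∈ degreeLT F (ρ + 2))
    (hn : LinearIndependent F n) (hn' : ∀ j, n j ∈ degreeLT F (σ + 2))
    (Y : Submodule F (Fin (ρ + 2) → F)) (hY : finrank F Y ≤ σ + 2) {G : F[X]}
    (hG : G ∈ degreeLT F (ρ + 1 + (σ + 2))) :
    ∃ Q : Matrix (Fin (ρ + 2)) (Fin (σ + 2)) F, ∑ i, ∑ j, Q i j • (m i * n j) = G ∧
      ∀ y ∈ Y, Matrix.vecMul y Q = 0 → y = 0 := by
  classical
  -- coordinates of the polynomials of degree `< r`
  let m' : Fin (ρ + 2) → degreeLT F (ρ + 2) := fun i => ⟨m i, hm' i⟩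
  have h1 : LinearIndependent F m' := LinearIndependent.of_comp (degreeLT F (ρ + 2)).subtype hm
  have := Module.Finite.equiv (degreeLTEquiv F (ρ + 2)).symm
  have h2 : finrank F (degreeLT F (ρ + 2)) = ρ + 2 := by
    rw [(degreeLTEquiv F (ρ + 2)).finrank_eq, finrank_fin_fun]
  let bm : Basis (Fin (ρ + 2)) F (degreeLT F (ρ + 2)) :=
    basisOfLinearIndependentOfCardEqFinrank h1 (by rw [Fintype.card_fin, h2])
  have hbm : ∀ i, ((bm i : degreeLT F (ρ + 2)) : F[X]) = m i := by
    intro i
    rw [coe_basisOfLinearIndependentOfCardEqFinrank]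
  obtain ⟨η₁, hη₁⟩ := LinearMap.exists_extend (bm.equivFun : degreeLT F (ρ + 2) →ₗ[F] (Fin (ρ + 2) → F))
  have hη₁m : ∀ i, η₁ (m i) = Pi.single i 1 := by
    intro i
    have h3 := LinearMap.congr_fun hη₁ (bm i)
    rw [LinearMap.comp_apply, Submodule.subtype_apply, hbm] at h3
    rw [h3]
    funext j
    simp [Pi.single_apply, eq_comm]
  have hη₁' : ∀ p ∈ degreeLT F (ρ + 2), ∑ i, η₁ p i • m i = p := by
    intro p hp
    have h3 := LinearMap.congr_fun hη₁ ⟨p, hp⟩
    rw [LinearMap.comp_apply, Submodule.subtype_apply] at h3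
    have h4 := congrArg (degreeLT F (ρ + 2)).subtype (bm.sum_equivFun ⟨p, hp⟩)
    rw [map_sum] at h4
    simp only [map_smul, Submodule.subtype_apply, hbm] at h4
    rw [h3]
    exact h4
  -- the functionals on `Y`
  let δ : (Fin (ρ + 2) → F) →ₗ[F] Dual F Y :=
    { toFun := fun a =>
        { toFun := fun y => a ⬝ᵥ (y : Fin (ρ + 2) → F)
          map_add' := fun y z => by rw [Submodule.coe_add, dotProduct_add]
          map_smul' := fun c y => by rw [Submodule.coe_smul, dotProduct_smul, RingHom.id_apply] }
      map_add' := fun a b => by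
        ext y
        exact add_dotProduct a b (y : Fin (ρ + 2) → F)
      map_smul' := fun c a => by
        ext y
        exact smul_dotProduct c a (y : Fin (ρ + 2) → F) }
  have hδ : ∀ (a : Fin (ρ + 2) → F) (y : Y), δ a y = a ⬝ᵥ (y : Fin (ρ + 2) → F) := fun a y => rfl
  have hsurj : Function.Surjective δ := by
    intro φ
    obtain ⟨φ', hφ'⟩ := LinearMap.exists_extend φ
    refine ⟨fun i => φ' (Pi.single i 1), ?_⟩
    ext y
    rw [hδ, ← hφ', LinearMap.comp_apply, Submodule.subtype_apply, LinearMap.pi_apply_eq_sum_univ φ' (y : _ → F),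
      dotProduct]
    refine Finset.sum_congr rfl fun i _ => ?_
    rw [smul_eq_mul, mul_comm]
    congr 2
    funext j
    simp [Pi.single_apply, eq_comm]
  have hη : (degreeLT F (ρ + 2)).map (δ.comp η₁) = ⊤ := by
    rw [eq_top_iff]
    intro φ _
    obtain ⟨a, rfl⟩ := hsurj φ
    refine ⟨∑ i, a i • m i, Submodule.sum_mem _ fun i _ => Submodule.smul_mem _ _ (hm' i), ?_⟩
    rw [LinearMap.comp_apply, map_sum]
    congr 1
    funext j
    rw [Finset.sum_apply]
    simp only [map_smul, hη₁m, Pi.smul_apply, Pi.single_apply, smul_eq_mul, mul_ite, mul_one, mul_zero]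
    rw [Finset.sum_ite_eq Finset.univ j a, if_pos (Finset.mem_univ j)]
  obtain ⟨q, hq1, hq2, hq3⟩ := exists_seq hμ0 hμ1 σ (Dual F Y) (δ.comp η₁) hη
    (by rw [Subspace.dual_finrank_eq]; exact hY) G hG
  have hB : ∀ l : Fin (σ + 2), ∃ b : Fin (σ + 2) → F, ∑ j, b j • n j = X ^ (l : ℕ) := by
    intro l
    refine H957.TL.exists_comb n hn hn' ?_
    rw [mem_degreeLT, degree_X_pow]
    exact_mod_cast l.2
  choose b hb using hB
  refine ⟨fun i j => ∑ l, η₁ (q l) i * b l j, ?_, ?_⟩
  · calc ∑ i, ∑ j, (∑ l, η₁ (q l) i * b l j) • (m i * n j)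
        = ∑ i, ∑ j, ∑ l, (η₁ (q l) i • m i) * (b l j • n j) := by
          refine Finset.sum_congr rfl fun i _ => Finset.sum_congr rfl fun j _ => ?_
          rw [Finset.sum_smul]
          refine Finset.sum_congr rfl fun l _ => ?_
          rw [smul_mul_smul_comm]
      _ = ∑ l, (∑ i, η₁ (q l) i • m i) * (∑ j, b l j • n j) := by
          rw [Finset.sum_congr rfl fun i _ => Finset.sum_comm, Finset.sum_comm]
          refine Finset.sum_congr rfl fun l _ => ?_
          rw [Finset.sum_mul_sum]
      _ = G := by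
          rw [← hq2]
          refine Finset.sum_congr rfl fun l _ => ?_
          rw [hη₁' _ (hq1 l), hb, mul_comm]
  · intro y hy h0
    have h3 : ∀ l, η₁ (q l) ⬝ᵥ y = 0 := by
      have h4 : ∑ l : Fin (σ + 2), (η₁ (q l) ⬝ᵥ y) • (X : F[X]) ^ (l : ℕ) = 0 := by
        have h5 : ∀ j, ∑ l, (η₁ (q l) ⬝ᵥ y) * b l j = 0 := by
          intro j
          have h6 := congrFun h0 j
          change y ⬝ᵥ (fun i => ∑ l, η₁ (q l) i * b l j) = 0 at h6
          rw [← h6]
          simp only [dotProduct, Finset.sum_mul, Finset.mul_sum]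
          rw [Finset.sum_comm]
          refine Finset.sum_congr rfl fun i _ => Finset.sum_congr rfl fun l _ => ?_
          ring
        calc ∑ l : Fin (σ + 2), (η₁ (q l) ⬝ᵥ y) • (X : F[X]) ^ (l : ℕ)
            = ∑ l, ∑ j, ((η₁ (q l) ⬝ᵥ y) * b l j) • n j := by
              refine Finset.sum_congr rfl fun l _ => ?_
              rw [← hb, Finset.smul_sum]
              refine Finset.sum_congr rfl fun j _ => ?_
              rw [smul_smul]
          _ = 0 := by
              rw [Finset.sum_comm]
              refine Finset.sum_eq_zero fun j _ => ?_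
              rw [← Finset.sum_smul, h5, zero_smul]
      intro l
      have h5 := congrArg (fun p : F[X] => p.coeff (l : ℕ)) h4
      simp only [finsetSum_coeff, coeff_smul, coeff_X_pow, smul_eq_mul, coeff_zero] at h5
      rw [Finset.sum_eq_single l] at h5
      · simpa using h5
      · intro k _ hk
        rw [if_neg (fun h => hk (Fin.ext h.symm)), mul_zero]
      · intro h
        exact absurd (Finset.mem_univ l) h
    have h4 : ∀ φ : Dual F Y, φ ⟨y, hy⟩ = 0 := by
      intro φ
      have h5 : φ ∈ Submodule.span F (Set.range fun l => (δ.comp η₁) (q l)) := by rw [hq3]; trivial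
      induction h5 using Submodule.span_induction with
      | mem x hx =>
        obtain ⟨l, rfl⟩ := hx
        exact h3 l
      | zero => rfl
      | add x z _ _ hx hz => rw [LinearMap.add_apply, hx, hz, add_zero]
      | smul a x _ hx => rw [LinearMap.smul_apply, hx, smul_zero]
    funext i
    have h5 := h4 (δ (Pi.single i 1))
    rw [hδ, single_dotProduct, one_mul] at h5
    exact h5

end Cfsg.Agent.H171.TL
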