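import Cfsg.Agent.H171.TL.Aff
import Cfsg.Agent.H957.TL.Glue
import Cfsg.Agent.H950.TL.Sim

/-!
# Theorem L: a rational eigenvalue with eigenspace of dimension at least two (helper171)
-/

set_option autoImplicit false

namespace Cfsg.Agent.H171.TL

open Polynomial Module Matrix
open Cfsg.Agent.H957.TL (Fac core)

variable {F : Type*} [Field F]

/-- **the block form** with respect to the range of `A - a` -/
theorem exists_block {n r s : ℕ} (A : Matrix (Fin n) (Fin n) F) (a : F)
    (hr : (A - Matrix.scalar (Fin n) a).rank = r) (hs : r + s = n) :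
    ∃ (P : Matrix (Fin r) (Fin r) F) (Q : Matrix (Fin r) (Fin s) F) (B : Matrix (Fin n) (Fin r ⊕ Fin s) F)
      (B' : Matrix (Fin r ⊕ Fin s) (Fin n) F), B * B' = 1 ∧ B' * B = 1 ∧
      B' * A * B = fromBlocks P Q 0 (a • (1 : Matrix (Fin s) (Fin s) F)) ∧
      ∀ y : Fin r → F, y ᵥ* (P - a • (1 : Matrix (Fin r) (Fin r) F)) = 0 → y ᵥ* Q = 0 → y = 0 := by
  classical
  set D : (Fin n → F) →ₗ[F] (Fin n → F) := (A - Matrix.scalar (Fin n) a).mulVecLin with hD
  have hDv : ∀ v, D v = A *ᵥ v - a • v := by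
    intro v
    rw [hD, Matrix.mulVecLin_apply, sub_mulVec]
    congr 1
    funext i
    simp [Matrix.scalar_apply, Matrix.mulVec_diagonal]
  set R := LinearMap.range D with hR
  have hRr : finrank F R = r := hr
  obtain ⟨K, hK⟩ := R.exists_isCompl
  have hKs : finrank F K = s := by
    have := Submodule.finrank_add_eq_of_isCompl hK
    rw [hRr, finrank_fin_fun] at this
    omega
  let bR : Basis (Fin r) F R := finBasisOfFinrankEq F R hRr
  let bK : Basis (Fin s) F K := finBasisOfFinrankEq F K hKs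
  let e := Submodule.prodEquivOfIsCompl R K hK
  let β : Basis (Fin r ⊕ Fin s) F (Fin n → F) := (bR.prod bK).map e
  have hβl : ∀ i, β (Sum.inl i) = (bR i : Fin n → F) := by
    intro i
    simp [β, e, Submodule.coe_prodEquivOfIsCompl']
  have hre : ∀ x (hx : x ∈ R), (∀ j, β.repr x (Sum.inr j) = 0) ∧ ∀ i, β.repr x (Sum.inl i) = bR.repr ⟨x, hx⟩ i := by
    intro x hx
    have h1 : e.symm x = (⟨x, hx⟩, 0) := Submodule.prodEquivOfIsCompl_symm_apply_left R K hK ⟨x, hx⟩
    constructor
    · intro j
      rw [Basis.map_repr, LinearEquiv.trans_apply, h1, Basis.prod_repr_inr, map_zero, Finsupp.zero_apply]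
    · intro i
      rw [Basis.map_repr, LinearEquiv.trans_apply, h1, Basis.prod_repr_inl]
  have hDR : ∀ v, D v ∈ R := fun v => LinearMap.mem_range_self D v
  have hA : ∀ v, A *ᵥ v = a • v + D v := fun v => by rw [hDv]; abel
  let M : Matrix (Fin r ⊕ Fin s) (Fin r ⊕ Fin s) F := LinearMap.toMatrix β β A.mulVecLin
  have hM : ∀ i j, M i j = a * β.repr (β j) i + β.repr (D (β j)) i := by
    intro i j
    show LinearMap.toMatrix β β A.mulVecLin i j = _
    rw [LinearMap.toMatrix_apply, Matrix.mulVecLin_apply, hA, map_add, map_smul, Finsupp.add_apply,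
      Finsupp.smul_apply, smul_eq_mul]
  refine ⟨M.toBlocks₁₁, M.toBlocks₁₂, (Pi.basisFun F (Fin n)).toMatrix β, β.toMatrix (Pi.basisFun F (Fin n)),
    Basis.toMatrix_mul_toMatrix_flip _ _, Basis.toMatrix_mul_toMatrix_flip _ _, ?_, ?_⟩
  · have h1 : β.toMatrix (Pi.basisFun F (Fin n)) * A * (Pi.basisFun F (Fin n)).toMatrix β = M := by
      have h2 := basis_toMatrix_mul_linearMap_toMatrix_mul_basis_toMatrix (b := β) (b' := Pi.basisFun F (Fin n))
        (c := β) (c' := Pi.basisFun F (Fin n)) A.mulVecLin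
      rw [LinearMap.toMatrix_eq_toMatrix', ← Matrix.toLin'_apply', LinearMap.toMatrix'_toLin'] at h2
      exact h2
    rw [h1]
    conv_lhs => rw [← fromBlocks_toBlocks M]
    congr 1
    · ext i j
      rw [toBlocks₂₁, of_apply, hM, (hre _ (hDR _)).1, hβl, (hre _ (bR j).2).1, mul_zero, add_zero]
      rfl
    · ext i j
      rw [toBlocks₂₂, of_apply, hM, (hre _ (hDR _)).1, Basis.repr_self, add_zero, Matrix.smul_apply, one_apply,
        Finsupp.single_apply, smul_eq_mul]
      simp [eq_comm]
  · intro y h1 h2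
    have key : ∀ v, ∑ i, y i * β.repr (D v) (Sum.inl i) = 0 := by
      have hb : ∀ j, ∑ i, y i * β.repr (D (β j)) (Sum.inl i) = 0 := by
        rintro (j | j)
        · have h3 := congrFun h1 j
          refine Eq.trans ?_ h3
          show _ = ∑ i, y i * (M.toBlocks₁₁ - a • (1 : Matrix (Fin r) (Fin r) F)) i j
          refine Finset.sum_congr rfl fun i _ => ?_
          rw [Matrix.sub_apply, toBlocks₁₁, of_apply, hM, Matrix.smul_apply, one_apply, Basis.repr_self, Finsupp.single_apply,
            smul_eq_mul]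
          simp [eq_comm]
        · have h3 := congrFun h2 j
          refine Eq.trans ?_ h3
          show _ = ∑ i, y i * M.toBlocks₁₂ i j
          refine Finset.sum_congr rfl fun i _ => ?_
          rw [toBlocks₁₂, of_apply, hM, Basis.repr_self, Finsupp.single_apply]
          simp
      let φ : (Fin n → F) →ₗ[F] F := ∑ i, y i • ((Finsupp.lapply (Sum.inl i)).comp (β.repr.toLinearMap.comp D))
      have hφ : φ = 0 := by
        apply β.ext
        intro j
        simp only [φ, LinearMap.sum_apply, LinearMap.smul_apply, LinearMap.comp_apply, LinearEquiv.coe_coe,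
          Finsupp.lapply_apply, smul_eq_mul, LinearMap.zero_apply]
        exact hb j
      intro v
      have h3 := LinearMap.congr_fun hφ v
      simp only [φ, LinearMap.sum_apply, LinearMap.smul_apply, LinearMap.comp_apply, LinearEquiv.coe_coe,
        Finsupp.lapply_apply, smul_eq_mul, LinearMap.zero_apply] at h3
      exact h3
    funext i
    obtain ⟨v, hv⟩ := (bR i).2
    have h3 := key v
    rw [hv] at h3
    have h4 : ∀ k, β.repr ((bR i : R) : Fin n → F) (Sum.inl k) = if i = k then 1 else 0 := by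
      intro k
      rw [(hre _ (bR i).2).2, Subtype.coe_eta, Basis.repr_self, Finsupp.single_apply]
    simp only [h4, mul_ite, mul_one, mul_zero] at h3
    rw [Finset.sum_ite_eq Finset.univ i y, if_pos (Finset.mem_univ i)] at h3
    exact h3

/-- the range of `[[P - a, Q], [0, 0]]` -/
theorem range_eq {r s : ℕ} {P : Matrix (Fin r) (Fin r) F} {Q : Matrix (Fin r) (Fin s) F} {a : F}
    (h : ∀ y : Fin r → F, y ᵥ* (P - a • (1 : Matrix (Fin r) (Fin r) F)) = 0 → y ᵥ* Q = 0 → y = 0) :
    LinearMap.range ((fromBlocks P Q 0 (a • (1 : Matrix (Fin s) (Fin s) F))).mulVecLin -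
      algebraMap F (Module.End F (Fin r ⊕ Fin s → F)) a) =
      LinearMap.ker (LinearMap.funLeft F F (Sum.inr : Fin s → Fin r ⊕ Fin s)) := by
  classical
  set T := (fromBlocks P Q 0 (a • (1 : Matrix (Fin s) (Fin s) F))).mulVecLin -
      algebraMap F (Module.End F (Fin r ⊕ Fin s → F)) a with hT
  have hTv : ∀ v, T v = Sum.elim ((P - a • (1 : Matrix (Fin r) (Fin r) F)) *ᵥ (v ∘ Sum.inl) + Q *ᵥ (v ∘ Sum.inr)) 0 := by
    intro v
    rw [hT, LinearMap.sub_apply, Matrix.mulVecLin_apply, Module.algebraMap_end_apply, fromBlocks_mulVec]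
    funext i
    rcases i with i | i
    · simp [sub_mulVec, smul_mulVec]
      ring
    · simp [smul_mulVec]
  apply le_antisymm
  · rintro _ ⟨v, rfl⟩
    rw [LinearMap.mem_ker, hTv]
    funext i
    rfl
  · -- the map onto the first block
    let S : (Fin r ⊕ Fin s → F) →ₗ[F] (Fin r → F) := (LinearMap.funLeft F F Sum.inl).comp T
    have hS : LinearMap.range S = ⊤ := by
      by_contra hne
      obtain ⟨f, hf, hle⟩ := Submodule.exists_le_ker_of_lt_top _ (lt_top_iff_ne_top.2 hne)
      apply hf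
      have hfS : ∀ v, f (S v) = 0 := fun v => hle (LinearMap.mem_range_self S v)
      have hfs : ∀ w : Fin r → F, f w = (fun i => f (Pi.single i 1)) ⬝ᵥ w := by
        intro w
        rw [LinearMap.pi_apply_eq_sum_univ f w, dotProduct]
        refine Finset.sum_congr rfl fun i _ => ?_
        rw [smul_eq_mul, mul_comm]
        congr 2
        funext j
        simp [Pi.single_apply, eq_comm]
      have h1 : (fun i => f (Pi.single i 1)) = 0 := by
        apply h
        · funext j
          have h2 := hfS (Pi.single (Sum.inl j) 1)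
          rw [hfs] at h2
          have h3 : S (Pi.single (Sum.inl j) 1) = (P - a • (1 : Matrix (Fin r) (Fin r) F)) *ᵥ Pi.single j 1 := by
            show (T (Pi.single (Sum.inl j) 1)) ∘ Sum.inl = _
            rw [hTv]
            have e1 : (Pi.single (Sum.inl j) (1 : F) : Fin r ⊕ Fin s → F) ∘ Sum.inl = Pi.single j 1 := by
              funext i
              simp [Pi.single_apply]
            have e2 : (Pi.single (Sum.inl j) (1 : F) : Fin r ⊕ Fin s → F) ∘ Sum.inr = 0 := by
              funext i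
              simp [Pi.single_apply]
            rw [e1, e2, mulVec_zero, add_zero]
            rfl
          rw [h3, mulVec_single_one] at h2
          exact h2
        · funext j
          have h2 := hfS (Pi.single (Sum.inr j) 1)
          rw [hfs] at h2
          have h3 : S (Pi.single (Sum.inr j) 1) = Q *ᵥ Pi.single j 1 := by
            show (T (Pi.single (Sum.inr j) 1)) ∘ Sum.inl = _
            rw [hTv]
            have e1 : (Pi.single (Sum.inr j) (1 : F) : Fin r ⊕ Fin s → F) ∘ Sum.inr = Pi.single j 1 := by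
              funext i
              simp [Pi.single_apply]
            have e2 : (Pi.single (Sum.inr j) (1 : F) : Fin r ⊕ Fin s → F) ∘ Sum.inl = 0 := by
              funext i
              simp [Pi.single_apply]
            rw [e1, e2, mulVec_zero, zero_add]
            rfl
          rw [h3, mulVec_single_one] at h2
          exact h2
      ext i
      rw [LinearMap.comp_apply]
      have h4 := congrFun h1 i
      simpa using h4
    intro v hv
    obtain ⟨w, hw⟩ : v ∘ Sum.inl ∈ LinearMap.range S := by rw [hS]; trivial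
    refine ⟨w, ?_⟩
    funext i
    rcases i with i | i
    · exact congrFun hw i
    · rw [hTv]
      have h2 := congrFun (LinearMap.mem_ker.1 hv) i
      exact h2.symm

/-- any two `Q` of full rank give similar matrices -/
theorem fac_congr {r s : ℕ} {P : Matrix (Fin r) (Fin r) F} {Q Q' : Matrix (Fin r) (Fin s) F} {a : F}
    (h : ∀ y : Fin r → F, y ᵥ* (P - a • (1 : Matrix (Fin r) (Fin r) F)) = 0 → y ᵥ* Q = 0 → y = 0)
    (h' : ∀ y : Fin r → F, y ᵥ* (P - a • (1 : Matrix (Fin r) (Fin r) F)) = 0 → y ᵥ* Q' = 0 → y = 0) {f g : F[X]}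
    (hF : Fac (fromBlocks P Q' 0 (a • (1 : Matrix (Fin s) (Fin s) F))) f g) :
    Fac (fromBlocks P Q 0 (a • (1 : Matrix (Fin s) (Fin s) F))) f g := by
  classical
  set M := fromBlocks P Q 0 (a • (1 : Matrix (Fin s) (Fin s) F)) with hM
  set M' := fromBlocks P Q' 0 (a • (1 : Matrix (Fin s) (Fin s) F)) with hM'
  obtain ⟨E, hE⟩ := H950.TL.similar_of_range M.mulVecLin M'.mulVecLin a rfl
    (LinearEquiv.ofEq _ _ ((range_eq h).trans (range_eq h').symm)) (by
      intro v hv hAv
      rw [range_eq h] at hv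
      have h1 : v ∘ Sum.inr = 0 := LinearMap.mem_ker.1 hv
      show M *ᵥ v = M' *ᵥ v
      rw [hM, hM', fromBlocks_mulVec, fromBlocks_mulVec, h1]
      simp only [mulVec_zero])
  refine hF.transfer (P := LinearMap.toMatrix' E.symm.toLinearMap) (P' := LinearMap.toMatrix' E.toLinearMap) ?_ ?_ ?_
  · rw [← LinearMap.toMatrix'_comp, LinearEquiv.comp_coe, LinearEquiv.self_trans_symm, LinearEquiv.refl_toLinearMap,
      LinearMap.toMatrix'_id]
  · rw [← LinearMap.toMatrix'_comp, LinearEquiv.comp_coe, LinearEquiv.symm_trans_self, LinearEquiv.refl_toLinearMap,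
      LinearMap.toMatrix'_id]
  · have e1 : M = LinearMap.toMatrix' M.mulVecLin := by
      rw [← Matrix.toLin'_apply', LinearMap.toMatrix'_toLin']
    have e2 : M' = LinearMap.toMatrix' M'.mulVecLin := by
      rw [← Matrix.toLin'_apply', LinearMap.toMatrix'_toLin']
    conv_lhs => rw [e1]
    rw [← LinearMap.toMatrix'_comp, ← LinearMap.toMatrix'_comp]
    conv_rhs => rw [e2]
    congr 1
    refine LinearMap.ext fun v => ?_
    show E (M.mulVecLin (E.symm v)) = M'.mulVecLin v
    rw [hE, LinearEquiv.apply_symm_apply]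

/-- **case (C) of Theorem L** -/
theorem fac_eig [Finite F] (h3 : 3 ≤ Nat.card F) {n : ℕ} (A : Matrix (Fin n) (Fin n) F) (hA : A.det ≠ 0) (a : F)
    (hr : 2 ≤ (A - Matrix.scalar (Fin n) a).rank) (hs : (A - Matrix.scalar (Fin n) a).rank + 2 ≤ n) {f g : F[X]}
    (hf : f.Monic) (hg : g.Monic) (hfn : f.natDegree = n) (hgn : g.natDegree = n)
    (h0 : f.coeff 0 * g.coeff 0 = A.det) : Fac A f g := by
  classical
  have := Fintype.ofFinite F
  obtain ⟨μ, hμ0, hμ1⟩ : ∃ μ : F, μ ≠ 0 ∧ μ ≠ 1 := by
    by_contra hcon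
    push Not at hcon
    have h4 : (Finset.univ : Finset F) ⊆ {0, 1} := by
      intro x _
      by_cases hx : x = 0
      · simp [hx]
      · simp [hcon x hx]
    have h5 := Finset.card_le_card h4
    have h6 : ({0, 1} : Finset F).card ≤ 2 := Finset.card_le_two
    rw [Nat.card_eq_fintype_card] at h3
    rw [Finset.card_univ] at h5
    omega
  obtain ⟨ρ, hρ⟩ : ∃ ρ, (A - Matrix.scalar (Fin n) a).rank = ρ + 2 := ⟨_, (Nat.sub_add_cancel hr).symm⟩
  obtain ⟨σ, hσ⟩ : ∃ σ, ρ + 2 + (σ + 2) = n := ⟨n - 2 - (ρ + 2), by omega⟩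
  obtain ⟨P, Q, B, B', hB1, hB2, hBA, hy⟩ := exists_block A a hρ hσ
  -- the determinant
  have hdet : A.det = P.det * (a • (1 : Matrix (Fin (σ + 2)) (Fin (σ + 2)) F)).det := by
    rw [← det_fromBlocks_zero₂₁ P Q, ← hBA]
    have h4 := H957.TL.charpoly_conj hB2 hB1 A
    have h5 := Matrix.det_eq_sign_charpoly_coeff A
    have h6 := Matrix.det_eq_sign_charpoly_coeff (B' * A * B)
    rw [h5, h6, h4]
    congr 2
    rw [Fintype.card_fin, Fintype.card_sum, Fintype.card_fin, Fintype.card_fin, hσ]
  have hP : P.det ≠ 0 := fun h => hA (by rw [hdet, h, zero_mul])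
  have hE : (a • (1 : Matrix (Fin (σ + 2)) (Fin (σ + 2)) F)).det ≠ 0 := fun h => hA (by rw [hdet, h, mul_zero])
  obtain ⟨m, n', G, hm, hn, hm', hn', hG, hcore⟩ := core (k := ρ + 1) (r := σ + 1) hP hE hf hg (by omega) (by omega)
    (by rw [h0, hdet])
  -- the left kernel of `P - a`
  let Y : Submodule F (Fin (ρ + 2) → F) := LinearMap.ker (P - a • (1 : Matrix (Fin (ρ + 2)) (Fin (ρ + 2)) F)).vecMulLinear
  have hYm : ∀ y, y ∈ Y ↔ y ᵥ* (P - a • (1 : Matrix (Fin (ρ + 2)) (Fin (ρ + 2)) F)) = 0 := fun y => Iff.rfl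
  have hYf : finrank F Y ≤ σ + 2 := by
    have h4 : Function.Injective (Q.vecMulLinear.comp Y.subtype) := by
      rw [injective_iff_map_eq_zero]
      rintro ⟨y, hyY⟩ h5
      exact Subtype.ext (hy y ((hYm y).1 hyY) h5)
    have h5 := LinearMap.finrank_le_finrank_of_injective h4
    rwa [finrank_fin_fun] at h5
  obtain ⟨Q', hQ', hQy⟩ := exists_Q hμ0 hμ1 m n' hm hm' hn hn' Y hYf (G := G) (by
    have e1 : ρ + 1 + (σ + 2) = ρ + 1 + (σ + 1) + 1 := by omega
    rw [e1]
    exact hG)
  refine Fac.transfer (P := B) (P' := B') ?_ hB1 hB2 hBA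
  exact fac_congr hy (fun y h4 h5 => hQy y ((hYm y).2 h4) h5) (hcore Q' hQ')

end Cfsg.Agent.H171.TL
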